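import Cfsg.Agent.H436.KreinM

/-!
# The trace on the space of dimension `196884` (helper875)

`trace_eq` : the trace of an element of the Monster `M.G` on `V` is `1 + χ`, `χ` the irreducible character of degree
`196883` of `H436.KreinM`.
-/

set_option autoImplicit false
set_option maxRecDepth 100000

namespace Cfsg.Agent.H875.M23.TraceChar

open Cfsg Cfsg.Agent.MonsterX Cfsg.Agent.MonsterX.InstData Cfsg.Agent.Characters.Core Module
open Cfsg.Agent.MonsterX.Model Cfsg.Agent.MonsterX.MainBasic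
open Cfsg.Agent.H816.MEigL Cfsg.Agent.H816.MSch Cfsg.Agent.H816.MDeg Cfsg.Agent.H816.IMEig Cfsg.Agent.H816.MCnt
open Cfsg.Agent.H816.MCol
open Cfsg.Agent.H493.RatB Cfsg.Agent.H436.Krein Cfsg.Agent.H436.KreinM
open scoped BigOperators ComplexConjugate TensorProduct

universe u v

/-- **An invariant vector of a tensor product.** -/
theorem sum_char_mul_ne_zero {G : Type u} [Group G] [Fintype G] {V W : Type*} [AddCommGroup V] [Module ℂ V]
    [FiniteDimensional ℂ V] [AddCommGroup W] [Module ℂ W] [FiniteDimensional ℂ W] (ρ : Representation ℂ G V)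
    (σ : Representation ℂ G W) {X : Type v} [Fintype X] [MulAction G X] (a : X → V)
    (ha : ∀ (g : G) (y : X), ρ g (a y) = a (g • y)) (b : X → W) (hb : ∀ (g : G) (y : X), σ g (b y) = b (g • y))
    (φ : V →ₗ[ℂ] ℂ) (ψ : W →ₗ[ℂ] ℂ) (hne : ∑ y : X, φ (a y) * ψ (b y) ≠ 0) :
    ∑ g : G, ρ.character g * σ.character g ≠ 0 := by
  let τ : Representation ℂ G (V ⊗[ℂ] W) := Representation.tprod ρ σ
  have h3 : Representation.character (V := V ⊗[ℂ] W) τ = ρ.character * σ.character :=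
    Representation.char_tensor ρ σ
  let t : V ⊗[ℂ] W := ∑ y : X, a y ⊗ₜ[ℂ] b y
  have ht : ∀ g : G, τ g t = t := by
    intro g
    rw [map_sum]
    refine Fintype.sum_equiv (MulAction.toPerm g) _ _ fun y => ?_
    show Representation.tprod ρ σ g (a y ⊗ₜ[ℂ] b y) = _
    rw [Representation.tprod_apply, TensorProduct.map_tmul, ha, hb]
    rfl
  let μ : V ⊗[ℂ] W →ₗ[ℂ] ℂ := TensorProduct.lift ((LinearMap.mul ℂ ℂ).compl₁₂ φ ψ)
  have h4 : μ t = ∑ y : X, φ (a y) * ψ (b y) := by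
    rw [map_sum]
    rfl
  have h5 : t ≠ 0 := by
    intro h0
    apply hne
    rw [← h4, h0, map_zero]
  have h6 := sum_char_ne_zero (U := V ⊗[ℂ] W) τ ht h5
  rw [h3] at h6
  exact h6

/-- The complexified representation of the Monster on `V`. -/
noncomputable def rep : Representation ℂ ↥M.G (ℂ ⊗[ℚ] Space.V) where
  toFun g := ((g : Space.V ≃ₗ[ℚ] Space.V) : Space.V →ₗ[ℚ] Space.V).baseChange ℂ
  map_one' := by
    show (LinearMap.id : Space.V →ₗ[ℚ] Space.V).baseChange ℂ = _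
    rw [LinearMap.baseChange_id]
    rfl
  map_mul' g h := by
    show (((g : Space.V ≃ₗ[ℚ] Space.V) : Space.V →ₗ[ℚ] Space.V).comp
      ((h : Space.V ≃ₗ[ℚ] Space.V) : Space.V →ₗ[ℚ] Space.V)).baseChange ℂ = _
    rw [LinearMap.baseChange_comp]
    rfl

theorem rep_tmul (g : ↥M.G) (c : ℂ) (v : Space.V) : rep g (c ⊗ₜ[ℚ] v) = c ⊗ₜ[ℚ] (g : Space.V ≃ₗ[ℚ] Space.V) v :=
  LinearMap.baseChange_tmul _ _ _

/-- The trace on `V`, as a complex number. -/
noncomputable def trV (g : ↥M.G) : ℂ :=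
  ((LinearMap.trace ℚ Space.V ((g : Space.V ≃ₗ[ℚ] Space.V) : Space.V →ₗ[ℚ] Space.V) : ℚ) : ℂ)

theorem finite_V : Module.Finite ℚ Space.V := Module.finite_of_finrank_pos (by rw [Space.finrank_eq]; norm_num)

theorem char_rep (g : ↥M.G) : rep.character g = trV g := by
  have := finite_V
  exact LinearMap.trace_baseChange ((g : Space.V ≃ₗ[ℚ] Space.V) : Space.V →ₗ[ℚ] Space.V) ℂ

theorem isCharacter_trV : IsCharacter ↥M.G trV := by
  have := finite_V
  have h := isCharacter_of_rep rep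
  rwa [show rep.character = trV from funext char_rep] at h

theorem trV_one : trV 1 = 196884 := by
  unfold trV
  have h : ((((1 : ↥M.G) : Space.V ≃ₗ[ℚ] Space.V) : Space.V →ₗ[ℚ] Space.V)) = LinearMap.id := rfl
  rw [h, LinearMap.trace_id, Space.finrank_eq]
  norm_num

/-- The functional `F(a₀, ·)`. -/
noncomputable def fa : ℂ ⊗[ℚ] Space.V →ₗ[ℂ] ℂ :=
  (TensorProduct.AlgebraTensorModule.rid ℚ ℂ ℂ).toLinearMap.comp ((M.F M.a₀).baseChange ℂ)

theorem fa_tmul (v : Space.V) : fa ((1 : ℂ) ⊗ₜ[ℚ] v) = ((M.F M.a₀ v : ℚ) : ℂ) := by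
  show (TensorProduct.AlgebraTensorModule.rid ℚ ℂ ℂ) ((M.F M.a₀).baseChange ℂ ((1 : ℂ) ⊗ₜ[ℚ] v)) = _
  rw [LinearMap.baseChange_tmul, TensorProduct.AlgebraTensorModule.rid_tmul, Algebra.smul_def, mul_one]
  rfl

noncomputable local instance instFintypeXT : Fintype XT := Fintype.ofFinite XT

noncomputable local instance instDecXT : DecidableEq XT := Classical.decEq XT

/-- **A constituent of the trace.** -/
theorem inner_ne_zero {P : Fin 9 → Fin 9 → ℤ} {θ D : ℤ} {ω : Fin 9 → ℤ} {R : Fin 9 → Fin 9 → ℤ} {r : Fin 9 → ℤ}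
    {f : ℕ} (h : Dat t k P 2 θ D ω R r 97239461142009186000 f)
    (hK : ∑ u, (k u : ℤ) * ((vv u : ℤ) * ω u) ≠ 0) [Fintype ↥M.G] : classInner trV (ch ω D) ≠ 0 := by
  have := finite_V
  have hD : D ≠ 0 := h.hD
  rw [classInner_def]
  refine mul_ne_zero (inv_ne_zero (by exact_mod_cast (Nat.card_pos (α := ↥M.G)).ne')) ?_
  simp only [ch_conj h, ← char_rep]
  refine sum_char_mul_ne_zero rep (isCol.sub (fun u => (ω u : ℂ) / (D : ℂ))).toRepresentation
    (fun y : XT => (1 : ℂ) ⊗ₜ[ℚ] y.1) ?_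
    (fun y => (⟨Col.ee c (fun u => (ω u : ℂ) / (D : ℂ)) y, Submodule.subset_span ⟨y, rfl⟩⟩ :
      (isCol.sub (fun u => (ω u : ℂ) / (D : ℂ))).toSubmodule)) ?_
    fa ((LinearMap.proj b0).comp (isCol.sub (fun u => (ω u : ℂ) / (D : ℂ))).toSubmodule.subtype) ?_
  · intro g y
    exact rep_tmul g 1 y.1
  · intro g y
    exact Subtype.ext (isCol.prep_ee (fun u => (ω u : ℂ) / (D : ℂ)) g y)
  · have e : ∑ y : XT, ((vv (c b0 y) : ℂ) / 32) * ((ω (c b0 y) : ℂ) / (D : ℂ)) =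
        ((∑ u, (k u : ℤ) * ((vv u : ℤ) * ω u) : ℤ) : ℂ) / (32 * (D : ℂ)) := by
      have h5 : ∀ u : Fin 9, (k u : ℂ) * (((vv u : ℂ) / 32) * ((ω u : ℂ) / (D : ℂ))) =
          ∑ z, if c b0 z = u then ((vv u : ℂ) / 32) * ((ω u : ℂ) / (D : ℂ)) else 0 := by
        intro u
        rw [← Finset.sum_filter, Finset.sum_const, nsmul_eq_mul]
        congr 1
        rw [← kk_eq u]
        unfold Col.kk
        rw [Nat.card_eq_fintype_card, Fintype.card_subtype]
      have h6 : ∑ u : Fin 9, (k u : ℂ) * (((vv u : ℂ) / 32) * ((ω u : ℂ) / (D : ℂ))) =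
          ∑ y : XT, ((vv (c b0 y) : ℂ) / 32) * ((ω (c b0 y) : ℂ) / (D : ℂ)) := by
        simp only [h5]
        rw [Finset.sum_comm]
        refine Finset.sum_congr rfl fun z _ => ?_
        rw [Finset.sum_ite_eq]
        simp
      rw [← h6, Int.cast_sum, Finset.sum_div]
      refine Finset.sum_congr rfl fun u _ => ?_
      have h7 : (D : ℂ) ≠ 0 := by exact_mod_cast hD
      push_cast
      field_simp
    have e2 : ∀ y : XT, fa ((1 : ℂ) ⊗ₜ[ℚ] y.1) = (vv (c b0 y) : ℂ) / 32 := by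
      intro y
      rw [fa_tmul]
      have h8 : M.F M.a₀ y.1 = (vv (c b0 y) : ℚ) / 32 := F_eq b0.2 y.2
      rw [h8]
      push_cast
      rfl
    have e3 : ∑ y : XT, fa ((1 : ℂ) ⊗ₜ[ℚ] y.1) *
        ((LinearMap.proj b0).comp (isCol.sub (fun u => (ω u : ℂ) / (D : ℂ))).toSubmodule.subtype)
          (⟨Col.ee c (fun u => (ω u : ℂ) / (D : ℂ)) y, Submodule.subset_span ⟨y, rfl⟩⟩ :
            (isCol.sub (fun u => (ω u : ℂ) / (D : ℂ))).toSubmodule) =
        ∑ y : XT, ((vv (c b0 y) : ℂ) / 32) * ((ω (c b0 y) : ℂ) / (D : ℂ)) :=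
      Finset.sum_congr rfl fun y _ => by rw [e2]; rfl
    intro h0
    have h9 := e3.symm.trans h0
    rw [e] at h9
    have h7 : (D : ℂ) ≠ 0 := by exact_mod_cast hD
    rcases div_eq_zero_iff.1 h9 with h10 | h10
    · exact hK (by exact_mod_cast h10)
    · exact (mul_ne_zero (by norm_num) h7) h10

/-- The irreducible character of degree `196883`. -/
noncomputable def chi : ↥M.G → ℂ := ch (vec [752, 80, -16, 23, -4, 8, -4, 2, -1]) 752

theorem chi_irr : IsIrrCharacter ↥M.G chi := ch_irr dat_196883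

theorem chi_one : chi 1 = 196883 := by
  unfold chi
  rw [ch_one dat_196883]
  norm_num

theorem chi_rat : RatV chi := ch_rat dat_196883

/-- **The trace on `V` is `1 + χ`.** -/
theorem trV_eq (g : ↥M.G) : trV g = 1 + chi g := by
  classical
  have := finite_G
  have := Fintype.ofFinite ↥M.G
  obtain ⟨χ₀, e0⟩ : ∃ χ : IrrCharacter ↥M.G, (χ : ↥M.G → ℂ) = ch (vec [1, 1, 1, 1, 1, 1, 1, 1, 1]) 1 :=
    ⟨⟨_, ch_irr dat_1⟩, rfl⟩
  obtain ⟨χ₁, e1⟩ : ∃ χ : IrrCharacter ↥M.G, (χ : ↥M.G → ℂ) = chi := ⟨⟨_, chi_irr⟩, rfl⟩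
  have d0 : (χ₀ : ↥M.G → ℂ) 1 = 1 := by
    rw [e0, ch_one dat_1]
    norm_num
  have d1 : (χ₁ : ↥M.G → ℂ) 1 = 196883 := by rw [e1, chi_one]
  have n01 : χ₀ ∉ ({χ₁} : Finset (IrrCharacter ↥M.G)) := by
    rw [Finset.mem_singleton]
    rintro rfl
    rw [d0] at d1
    norm_num at d1
  have hmain := eq_sum_of_degree isCharacter_trV {χ₀, χ₁} (fun χ hχ => by
    simp only [Finset.mem_insert, Finset.mem_singleton] at hχ
    rcases hχ with rfl | rfl
    · rw [e0]
      exact inner_ne_zero dat_1 (by decide +kernel)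
    · rw [e1]
      exact inner_ne_zero dat_196883 (by decide +kernel)) (by
    rw [Finset.sum_insert n01, Finset.sum_singleton, d0, d1, trV_one]
    norm_num)
  have h1 := congrFun hmain g
  rw [Finset.sum_apply, Finset.sum_insert n01, Finset.sum_singleton, e0, ch_trivial g, e1] at h1
  exact h1

/-- **The values of the character of degree `196883`.** -/
theorem chi_eq (g : ↥M.G) : chi g =
    ((LinearMap.trace ℚ Space.V ((g : Space.V ≃ₗ[ℚ] Space.V) : Space.V →ₗ[ℚ] Space.V) : ℚ) : ℂ) - 1 := by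
  have h := trV_eq g
  unfold trV at h
  rw [h, add_sub_cancel_left]

end Cfsg.Agent.H875.M23.TraceChar
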