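import Cfsg.Agent.MonsterX.Conc

/-!
# Traces of signed permutations of the lanes in the model of the Monster (helper875)

`trace_W` : for a word `w` in the letters `≠ 39, 40, 41` (programs with permutations and sign changes only) the trace of
`W w` on the space `V` of dimension `196884` is `a - b`, if the kernel check `trc (w.map prog) a b` succeeds
(`a`, `b` : numbers of the lanes of `upM` fixed with sign `+`, `-`, up to the transposition of the matrix).
-/

set_option autoImplicit false
set_option maxRecDepth 100000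

namespace Cfsg.Agent.H875.M23.Trace

open Cfsg.Agent.Lib.PermNet Cfsg.Agent.Monster.VecEngine Cfsg.Agent.Monster Cfsg.Agent.Monster.VecSpace
open Cfsg.Agent.Monster.PlaneArith
open Cfsg.Agent.MonsterX.Space Cfsg.Agent.MonsterX.Conc Cfsg.Agent.MonsterX.ProgTable Cfsg.Agent.MonsterX.GensT
open Cfsg.Agent.MonsterX.ProgBase

/-! ### Monomial programs -/

/-- The program consists of permutations and sign changes. -/
noncomputable def mono (P : Prog) : Bool :=
  Prog.rec (motive := fun _ => Bool) true (fun _ _ ih => ih) (fun _ _ ih => ih) (fun _ _ _ => false)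
    (fun _ _ => false) (fun _ _ _ _ => false) P

/-- All programs of the list are monomial. -/
noncomputable def monoL (w : List Prog) : Bool :=
  List.rec (motive := fun _ => Bool) true (fun P _ ih => and (mono P) ih) w

/-- A signed permutation of the lanes. -/
def SPerm (φ : (ℕ → ℚ) →ₗ[ℚ] (ℕ → ℚ)) : Prop :=
  ∃ (p : ℕ → ℕ) (s : ℕ → ℤ), (∀ i, s i = 1 ∨ s i = -1) ∧ (∀ i, i < 262144 → p i < 262144) ∧
    ∀ f i, φ f i = s i * f (p i)

theorem SPerm.id : SPerm LinearMap.id :=
  ⟨fun i => i, fun _ => 1, fun _ => Or.inl rfl, fun _ h => h, fun f i => by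
    rw [LinearMap.id_apply, Int.cast_one, one_mul]⟩

theorem SPerm.comp {φ ψ : (ℕ → ℚ) →ₗ[ℚ] (ℕ → ℚ)} (hφ : SPerm φ) (hψ : SPerm ψ) : SPerm (φ.comp ψ) := by
  obtain ⟨p, s, h1, h2, h3⟩ := hφ
  obtain ⟨q, t, k1, k2, k3⟩ := hψ
  refine ⟨fun i => q (p i), fun i => s i * t (p i), fun i => ?_, fun i hi => k2 _ (h2 i hi), fun f i => ?_⟩
  · rcases h1 i with h | h <;> rcases k1 (p i) with k | k <;> simp [h, k]
  · rw [LinearMap.comp_apply, h3, k3]
    push_cast
    ring

theorem sperm_perm {N : Net} (hN : N.ok 262144 = true) : SPerm (lcomp ℚ N.perm) :=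
  ⟨N.perm, fun _ => 1, fun _ => Or.inl rfl, fun i hi => perm_lt hN hi, fun f i => by
    rw [Int.cast_one, one_mul]; rfl⟩

theorem sperm_neg (M : ℕ) : SPerm (lneg ℚ M) := by
  refine ⟨fun i => i, fun i => if M.testBit i then -1 else 1, fun i => ?_, fun _ h => h, fun f i => ?_⟩
  · by_cases h : M.testBit i = true
    · right; exact if_pos h
    · left; exact if_neg h
  · show (if M.testBit i then - f i else f i) = ((if M.testBit i then (-1 : ℤ) else 1 : ℤ) : ℚ) * f i
    by_cases h : M.testBit i = true
    · rw [if_pos h, if_pos h]; push_cast; ring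
    · rw [if_neg h, if_neg h]; push_cast; ring

theorem sperm_sem {P : Prog} (hP : P.ok 262144 = true) (h : mono P = true) : SPerm (sem ℚ P) := by
  induction P with
  | nil => exact SPerm.id
  | perm N P ih =>
    have hP' : and (N.ok 262144) (P.ok 262144) = true := hP
    rw [Bool.and_eq_true] at hP'
    exact (ih hP'.2 h).comp (sperm_perm hP'.1)
  | neg M P ih => exact (ih hP h).comp (sperm_neg M)
  | dbl M P ih => exact absurd (show false = true from h) (by simp)
  | half P ih => exact absurd (show false = true from h) (by simp)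
  | bfly M d P ih => exact absurd (show false = true from h) (by simp)

theorem sperm_semL {w : List Prog} (hw : ∀ P ∈ w, P.ok 262144 = true) (h : monoL w = true) : SPerm (semL ℚ w) := by
  induction w with
  | nil => exact SPerm.id
  | cons P w ih =>
    have h' : and (mono P) (monoL w) = true := h
    rw [Bool.and_eq_true] at h'
    exact (ih (fun Q hQ => hw Q (by simp [hQ])) h'.2).comp (sperm_sem (hw P (by simp)) h'.1)

/-! ### Labels -/

/-- The index bits `b, b + 1, …, b + m - 1`. -/
noncomputable def idx (m : ℕ) : ℕ → Pl :=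
  Nat.rec (motive := fun _ => ℕ → Pl) (fun _ => .sgn 0) (fun _ ih b => .cons (plane 18 b) (ih (Nat.succ b))) m

theorem val_idx (m b i : ℕ) (hi : i < 2 ^ 18) (hb : b + m ≤ 18) : val (idx m b) i = ((i / 2 ^ b % 2 ^ m : ℕ) : ℤ) := by
  induction m generalizing b with
  | zero =>
    show - bt 0 i = _
    rw [bt_zero, pow_zero, Nat.mod_one]
    rfl
  | succ m ih =>
    show bt (plane 18 b) i + 2 * val (idx m (b + 1)) i = _
    rw [ih (b + 1) (by omega), pow_succ' 2 m, Nat.mod_mul, Nat.div_div_eq_div_mul, ← pow_succ]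
    have h1 : bt (plane 18 b) i = ((i / 2 ^ b % 2 : ℕ) : ℤ) := by
      unfold bt
      rw [testBit_plane 18 b i hi (by omega), Nat.testBit_eq_decide_div_mod_eq]
      rcases Nat.mod_two_eq_zero_or_one (i / 2 ^ b) with h | h <;> simp [h]
    rw [h1]
    push_cast
    rfl

/-- The labels `2 i + 1`. -/
noncomputable def lab : Pl := .cons (full 262144) (idx 18 0)

theorem val_lab {i : ℕ} (hi : i < 262144) : val lab i = 2 * (i : ℤ) + 1 := by
  show bt (full 262144) i + 2 * val (idx 18 0) i = _
  have h1 : i % 2 ^ 18 = i := Nat.mod_eq_of_lt hi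
  rw [bt_full _ _ hi, val_idx 18 0 i hi (by norm_num), pow_zero, Nat.div_one, h1]
  ring

/-! ### The check -/

/-- The kernel check for the numbers of fixed lanes. -/
noncomputable def trc (w : List Prog) (a b : ℕ) : Bool :=
  and (monoL w) (go lab fun x => go (mapNet trN x) fun x' => runL w x fun y =>
    and (seqB (Nat.land upM (Nat.lor (eqm 262144 y x) (eqm 262144 y x'))) fun A => cardIs 18 18 a A)
      (go (VecEngine.neg (full 262144) y) fun z =>
        seqB (Nat.land upM (Nat.lor (eqm 262144 z x) (eqm 262144 z x'))) fun B => cardIs 18 18 b B))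

/-- The trace as a sum over the lanes. -/
theorem trace_eq_sum (g : V ≃ₗ[ℚ] V) : LinearMap.trace ℚ V (g : V →ₗ[ℚ] V) =
    ∑ i : Lane upM, (g (upEquiv.symm (Pi.single i 1))).1 ⟨i.1, U_of_upM i.2⟩ := by
  classical
  rw [← LinearMap.trace_conj' (g : V →ₗ[ℚ] V) upEquiv, LinearMap.trace_eq_matrix_trace ℚ (Pi.basisFun ℚ (Lane upM)),
    Matrix.trace]
  refine Finset.sum_congr rfl fun i _ => ?_
  rw [Matrix.diag_apply, LinearMap.toMatrix_apply, Pi.basisFun_apply, Pi.basisFun_repr]
  rfl

theorem single_val (i : Lane upM) (j : ℕ) (h : upM.testBit j = true) :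
    (Pi.single i 1 : Lane upM → ℚ) (⟨j, h⟩ : Lane upM) = if j = i.1 then 1 else 0 := by
  classical
  by_cases he : j = i.1
  · rw [if_pos he]
    have e : (⟨j, h⟩ : Lane upM) = i := Subtype.ext he
    rw [e, Pi.single_eq_same]
  · rw [if_neg he]
    exact Pi.single_eq_of_ne (fun e => he (congrArg Subtype.val e)) _

theorem ext_upEquiv (i : Lane upM) (j : ℕ) : VecSpace.ext ℚ U (upEquiv.symm (Pi.single i 1)).1 j =
    if j = i.1 ∨ j = tr i.1 then 1 else 0 := by
  classical
  by_cases hU : U.testBit j = true
  · rw [ext_apply_of_true ℚ hU]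
    show (if h : upM.testBit j = true then (Pi.single i 1 : Lane upM → ℚ) (⟨j, h⟩ : Lane upM)
      else (Pi.single i 1 : Lane upM → ℚ) (⟨tr j, upM_tr hU h⟩ : Lane upM)) = _
    by_cases hj : upM.testBit j = true
    · rw [dif_pos hj, single_val]
      by_cases he : j = i.1
      · rw [if_pos he, if_pos (Or.inl he)]
      · rw [if_neg he, if_neg]
        rintro (h | h)
        · exact he h
        · rw [h] at hj
          exact he (h.trans (tr_eq_of_upM i.2 hj))
    · rw [dif_neg hj, single_val]
      by_cases he : tr j = i.1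
      · rw [if_pos he, if_pos]
        right
        rw [← he, tr_tr]
      · rw [if_neg he, if_neg]
        rintro (h | h)
        · rw [h] at hj
          exact hj i.2
        · apply he
          rw [h, tr_tr]
  · rw [ext_apply_of_not ℚ hU, if_neg]
    rintro (h | h)
    · rw [h] at hU
      exact hU (U_of_upM i.2)
    · rw [h, testBit_tr_U] at hU
      exact hU (U_of_upM i.2)

/-- **The trace of a monomial word.** -/
theorem trace_W {w : List ℕ} {a b : ℕ} (ha : a < 2 ^ 18) (hb : b < 2 ^ 18) (h : trc (w.map prog) a b = true) :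
    LinearMap.trace ℚ V (W w : V →ₗ[ℚ] V) = (a : ℚ) - b := by
  classical
  have h' : and (monoL (w.map prog)) (go lab fun x => go (mapNet trN x) fun x' => runL (w.map prog) x fun y =>
    and (seqB (Nat.land upM (Nat.lor (eqm 262144 y x) (eqm 262144 y x'))) fun A => cardIs 18 18 a A)
      (go (VecEngine.neg (full 262144) y) fun z =>
        seqB (Nat.land upM (Nat.lor (eqm 262144 z x) (eqm 262144 z x'))) fun B => cardIs 18 18 b B)) = true := h
  rw [Bool.and_eq_true, go_eq, go_eq] at h'
  obtain ⟨hm, h1⟩ := h'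
  have hok : ∀ P ∈ w.map prog, P.ok 262144 = true := fun P hP => (progs_goodT w P hP).good.ok
  obtain ⟨p, s, hs, hp, hsem⟩ := sperm_semL hok hm
  obtain ⟨y, hy, h2⟩ := runL_sound ℚ two_ne_zero (m := 262144) (w.map prog) hok _ _ h1
  rw [Bool.and_eq_true, seqB_eq, go_eq, seqB_eq] at h2
  obtain ⟨hA, hB⟩ := h2
  have hA' := cardIs_sound ha hA
  have hB' := cardIs_sound hb hB
  -- the values
  have hx : ∀ i, i < 262144 → val (norm lab) i = 2 * (i : ℤ) + 1 := fun i hi => by rw [val_norm, val_lab hi]
  have hx' : ∀ i, i < 262144 → val (norm (mapNet trN (norm lab))) i = 2 * ((tr i : ℕ) : ℤ) + 1 := fun i hi => by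
    rw [val_norm, val_mapNet trN_ok, hx _ (perm_lt trN_ok hi)]
  have hyv : ∀ i, i < 262144 → val y i = s i * (2 * ((p i : ℕ) : ℤ) + 1) := by
    intro i hi
    have e1 : ((val y i : ℤ) : ℚ) = semL ℚ (w.map prog) (vec ℚ (norm lab)) i := congrFun hy i
    rw [hsem] at e1
    have e2 : vec ℚ (norm lab) (p i) = ((2 * ((p i : ℕ) : ℤ) + 1 : ℤ) : ℚ) := by
      show ((val (norm lab) (p i) : ℤ) : ℚ) = _
      rw [hx _ (hp i hi)]
    rw [e2] at e1
    exact_mod_cast e1
  have hzv : ∀ i, i < 262144 → val (norm (VecEngine.neg (full 262144) y)) i = - (s i * (2 * ((p i : ℕ) : ℤ) + 1)) := by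
    intro i hi
    rw [val_norm, val_neg, testBit_full, decide_eq_true hi, if_pos rfl, hyv i hi]
  -- the trace
  rw [trace_eq_sum]
  have hco : ∀ i : Lane upM, ((W w : V ≃ₗ[ℚ] V) (upEquiv.symm (Pi.single i 1))).1 ⟨i.1, U_of_upM i.2⟩ =
      (fun i : ℕ => (s i : ℚ) * (if p i = i ∨ p i = tr i then 1 else 0)) i.1 := by
    intro i
    rw [W_coe]
    have e1 := congrFun (res_semL ℚ (m := 262144) (fun P hP => (progs_goodT w P hP).good.pres)
      (VecSpace.ext ℚ U (upEquiv.symm (Pi.single i 1)).1)) ⟨i.1, U_of_upM i.2⟩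
    rw [res_ext] at e1
    refine e1.symm.trans ?_
    show semL ℚ (w.map prog) (VecSpace.ext ℚ U (upEquiv.symm (Pi.single i 1)).1) i.1 = _
    rw [hsem, ext_upEquiv]
  refine (Finset.sum_congr rfl fun i _ => hco i).trans ?_
  refine (sum_lane upM_lt (fun i : ℕ => (s i : ℚ) * (if p i = i ∨ p i = tr i then 1 else 0))).trans ?_
  have hsum : ∀ i ∈ Finset.range (2 ^ 18), (if upM.testBit i = true then
      (s i : ℚ) * (if p i = i ∨ p i = tr i then 1 else 0) else 0) =
      (if (Nat.land upM (Nat.lor (eqm 262144 y (norm lab)) (eqm 262144 y (norm (mapNet trN (norm lab)))))).testBit i =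
        true then 1 else 0) - (if (Nat.land upM (Nat.lor (eqm 262144 (norm (VecEngine.neg (full 262144) y)) (norm lab))
          (eqm 262144 (norm (VecEngine.neg (full 262144) y)) (norm (mapNet trN (norm lab)))))).testBit i = true
            then 1 else 0) := by
    intro i hi
    have hi' : i < 262144 := Finset.mem_range.1 hi
    have q1 : (Nat.land upM (Nat.lor (eqm 262144 y (norm lab)) (eqm 262144 y (norm (mapNet trN (norm lab)))))).testBit i =
        true ↔ upM.testBit i = true ∧ s i = 1 ∧ (p i = i ∨ p i = tr i) := by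
      show (upM &&& (eqm 262144 y (norm lab) ||| eqm 262144 y (norm (mapNet trN (norm lab))))).testBit i = true ↔ _
      rw [Nat.testBit_and, Nat.testBit_or, Bool.and_eq_true, Bool.or_eq_true, testBit_eqm, testBit_eqm, hyv i hi',
        hx i hi', hx' i hi']
      refine and_congr_right fun _ => ?_
      rcases hs i with h0 | h0
      · rw [h0]
        constructor
        · rintro (⟨-, h3⟩ | ⟨-, h3⟩)
          · exact ⟨rfl, Or.inl (by omega)⟩
          · exact ⟨rfl, Or.inr (by omega)⟩
        · rintro ⟨-, h3 | h3⟩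
          · left; exact ⟨hi', by rw [h3]; ring⟩
          · right; exact ⟨hi', by rw [h3]; ring⟩
      · rw [h0]
        constructor
        · rintro (⟨-, h3⟩ | ⟨-, h3⟩)
          · exfalso; omega
          · exfalso; omega
        · rintro ⟨h3, -⟩
          exact absurd h3 (by norm_num)
    have q2 : (Nat.land upM (Nat.lor (eqm 262144 (norm (VecEngine.neg (full 262144) y)) (norm lab))
        (eqm 262144 (norm (VecEngine.neg (full 262144) y)) (norm (mapNet trN (norm lab)))))).testBit i = true ↔
        upM.testBit i = true ∧ s i = -1 ∧ (p i = i ∨ p i = tr i) := by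
      show (upM &&& (eqm 262144 (norm (VecEngine.neg (full 262144) y)) (norm lab) |||
        eqm 262144 (norm (VecEngine.neg (full 262144) y)) (norm (mapNet trN (norm lab))))).testBit i = true ↔ _
      rw [Nat.testBit_and, Nat.testBit_or, Bool.and_eq_true, Bool.or_eq_true, testBit_eqm, testBit_eqm, hzv i hi',
        hx i hi', hx' i hi']
      refine and_congr_right fun _ => ?_
      rcases hs i with h0 | h0
      · rw [h0]
        constructor
        · rintro (⟨-, h3⟩ | ⟨-, h3⟩)
          · exfalso; omega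
          · exfalso; omega
        · rintro ⟨h3, -⟩
          exact absurd h3 (by norm_num)
      · rw [h0]
        constructor
        · rintro (⟨-, h3⟩ | ⟨-, h3⟩)
          · exact ⟨rfl, Or.inl (by omega)⟩
          · exact ⟨rfl, Or.inr (by omega)⟩
        · rintro ⟨-, h3 | h3⟩
          · left; exact ⟨hi', by rw [h3]; ring⟩
          · right; exact ⟨hi', by rw [h3]; ring⟩
    by_cases hu : upM.testBit i = true
    · rw [if_pos hu]
      by_cases hf : p i = i ∨ p i = tr i
      · rw [if_pos hf]
        rcases hs i with h0 | h0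
        · rw [if_pos (q1.2 ⟨hu, h0, hf⟩), if_neg (fun h3 => by
            have := (q2.1 h3).2.1
            rw [h0] at this
            exact absurd this (by norm_num)), h0]
          norm_num
        · rw [if_pos (q2.2 ⟨hu, h0, hf⟩), if_neg (fun h3 => by
            have := (q1.1 h3).2.1
            rw [h0] at this
            exact absurd this (by norm_num)), h0]
          norm_num
      · rw [if_neg hf, if_neg (fun h3 => hf (q1.1 h3).2.2), if_neg (fun h3 => hf (q2.1 h3).2.2)]
        ring
    · rw [if_neg hu, if_neg (fun h3 => hu (q1.1 h3).1), if_neg (fun h3 => hu (q2.1 h3).1), sub_zero]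
  rw [Finset.sum_congr rfl hsum, Finset.sum_sub_distrib, ← Finset.sum_filter, ← Finset.sum_filter,
    Finset.sum_const, Finset.sum_const, nsmul_eq_mul, nsmul_eq_mul, mul_one, mul_one, hA', hB']

end Cfsg.Agent.H875.M23.Trace
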